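import Mathlib

/-!
# Project NCV (S3894): definitions

No group between `PSL_n(q)` and `PGL_n(q)` (`n ≥ 3`, or `n = 2` and `q ≥ 4`) has a nilpotent
minimal cover.  All objects live in `GL (Fin n) F`; subgroups `A` of `↥G` (`G ≤ GL/Z`) are
pulled back to `GL` with `lift` and subgroups of `GL` are pushed down to `↥G` with `down`.
-/

set_option autoImplicit false

namespace Cfsg.Agent.Lib.helper7.NCV

open Matrix

universe u

variable {F : Type u} [Field F] {n : ℕ}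

/-- The projection `GL_n(F) → GL_n(F)/Z`. -/
abbrev prj (n : ℕ) (F : Type u) [Field F] :
    GL (Fin n) F →* GL (Fin n) F ⧸ Subgroup.center (GL (Fin n) F) :=
  QuotientGroup.mk' (Subgroup.center (GL (Fin n) F))

/-- Full preimage in `GL_n(F)` of a subgroup `A` of `↥G`. -/
def lift (G : Subgroup (GL (Fin n) F ⧸ Subgroup.center (GL (Fin n) F))) (A : Subgroup ↥G) :
    Subgroup (GL (Fin n) F) :=
  (A.map G.subtype).comap (prj n F)

/-- Image in `↥G` of a subgroup `H` of `GL_n(F)`. -/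
def down (G : Subgroup (GL (Fin n) F ⧸ Subgroup.center (GL (Fin n) F)))
    (H : Subgroup (GL (Fin n) F)) : Subgroup ↥G :=
  (H.map (prj n F)).subgroupOf G

/-- The predicate of the statement: `Γ` has a cover by proper subgroups which is minimal and
all of whose members are nilpotent. -/
def NilMinCover (Γ : Type*) [Group Γ] : Prop :=
  ∃ 𝓐 : Finset (Subgroup Γ), ((∀ A ∈ 𝓐, A ≠ ⊤) ∧ (∀ g : Γ, ∃ A ∈ 𝓐, g ∈ A)) ∧
    (∀ 𝓑 : Finset (Subgroup Γ), (∀ A ∈ 𝓑, A ≠ ⊤) ∧ (∀ g : Γ, ∃ A ∈ 𝓑, g ∈ A) →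
      𝓐.card ≤ 𝓑.card) ∧
    (∀ A ∈ 𝓐, Group.IsNilpotent ↥A)

/-- Stabiliser in `GL_n(F)` of the line `F v`. -/
def stab (v : Fin n → F) : Subgroup (GL (Fin n) F) where
  carrier := {x | ∃ c : F, (x : Matrix (Fin n) (Fin n) F) *ᵥ v = c • v}
  mul_mem' := by
    rintro x y ⟨c, hc⟩ ⟨c', hc'⟩
    refine ⟨c' * c, ?_⟩
    rw [Units.val_mul, ← Matrix.mulVec_mulVec, hc', Matrix.mulVec_smul, hc, smul_smul]
  one_mem' := ⟨1, by simp⟩
  inv_mem' := by
    rintro x ⟨c, hc⟩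
    have h1 : ((x⁻¹ : GL (Fin n) F) : Matrix (Fin n) (Fin n) F) *ᵥ
        ((x : Matrix (Fin n) (Fin n) F) *ᵥ v) = v := by
      rw [Matrix.mulVec_mulVec, ← Units.val_mul, inv_mul_cancel, Units.val_one, Matrix.one_mulVec]
    rw [hc, Matrix.mulVec_smul] at h1
    by_cases hc0 : c = 0
    · refine ⟨0, ?_⟩
      rw [hc0, zero_smul] at h1
      rw [← h1]; simp
    · refine ⟨c⁻¹, ?_⟩
      rw [← h1, smul_smul, inv_mul_cancel₀ hc0, one_smul]
      rw [h1]

theorem mem_stab {v : Fin n → F} {x : GL (Fin n) F} :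
    x ∈ stab v ↔ ∃ c : F, (x : Matrix (Fin n) (Fin n) F) *ᵥ v = c • v := Iff.rfl

/-- Centraliser in `GL_2(F)` of a matrix `g`. -/
def cen (g : Matrix (Fin 2) (Fin 2) F) : Subgroup (GL (Fin 2) F) where
  carrier := {y | (y : Matrix (Fin 2) (Fin 2) F) * g = g * (y : Matrix (Fin 2) (Fin 2) F)}
  mul_mem' := by
    intro x y hx hy
    simp only [Set.mem_ofPred_eq] at hx hy ⊢
    rw [Units.val_mul, Matrix.mul_assoc, hy, ← Matrix.mul_assoc, hx, Matrix.mul_assoc]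
  one_mem' := by simp
  inv_mem' := by
    intro x hx
    simp only [Set.mem_ofPred_eq] at hx ⊢
    have h1 : ((x⁻¹ : GL (Fin 2) F) : Matrix (Fin 2) (Fin 2) F) * (x : Matrix (Fin 2) (Fin 2) F) = 1 := by
      rw [← Units.val_mul, inv_mul_cancel, Units.val_one]
    have h2 : (x : Matrix (Fin 2) (Fin 2) F) * ((x⁻¹ : GL (Fin 2) F) : Matrix (Fin 2) (Fin 2) F) = 1 := by
      rw [← Units.val_mul, mul_inv_cancel, Units.val_one]
    calc ((x⁻¹ : GL (Fin 2) F) : Matrix (Fin 2) (Fin 2) F) * g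
        = ((x⁻¹ : GL (Fin 2) F) : Matrix (Fin 2) (Fin 2) F) * (g * (x : Matrix (Fin 2) (Fin 2) F)) *
            ((x⁻¹ : GL (Fin 2) F) : Matrix (Fin 2) (Fin 2) F) := by
          rw [Matrix.mul_assoc, Matrix.mul_assoc, h2, Matrix.mul_one]
      _ = g * ((x⁻¹ : GL (Fin 2) F) : Matrix (Fin 2) (Fin 2) F) := by
          rw [← hx, ← Matrix.mul_assoc, h1, Matrix.one_mul]

theorem mem_cen {g : Matrix (Fin 2) (Fin 2) F} {y : GL (Fin 2) F} :
    y ∈ cen g ↔ (y : Matrix (Fin 2) (Fin 2) F) * g = g * (y : Matrix (Fin 2) (Fin 2) F) := Iff.rfl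

/-- `g` has no eigenvector over `F` (irreducible 2×2 matrix). -/
def Irr (g : Matrix (Fin 2) (Fin 2) F) : Prop :=
  ∀ v : Fin 2 → F, v ≠ 0 → ∀ c : F, g *ᵥ v ≠ c • v

/-- The transvection `w ↦ w + det[v|w] v` of `F²`, fixing exactly the line `F v`. -/
def uvM (v : Fin 2 → F) : Matrix (Fin 2) (Fin 2) F :=
  !![1 - v 0 * v 1, v 0 * v 0; -(v 1 * v 1), 1 + v 0 * v 1]

/-- `uvM v` as an element of `SL_2(F)`. -/
def uvSL (v : Fin 2 → F) : SpecialLinearGroup (Fin 2) F :=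
  ⟨uvM v, by simp only [uvM, det_fin_two_of]; ring⟩

/-- `diag(s, s⁻¹)` as an element of `SL_2(F)`. -/
def dgSL (s : Fˣ) : SpecialLinearGroup (Fin 2) F :=
  ⟨!![(s : F), 0; 0, ((s⁻¹ : Fˣ) : F)], by simp [det_fin_two_of]⟩

/-- The elementary transvection `1 + E_{ij}` as an element of `SL_n(F)`. -/
def tvSL (i j : Fin n) (h : i ≠ j) : SpecialLinearGroup (Fin n) F :=
  ⟨transvection i j 1, det_transvection_of_ne i j h 1⟩

/-- Lower Jordan block of size `m+3`: `(uJ w)_i = w_i + w_{i-1}`. -/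
def uJ (m : ℕ) : Matrix (Fin (m + 3)) (Fin (m + 3)) F :=
  fun i j => if i = j then 1 else if i.val = j.val + 1 then 1 else 0

/-- The swap of the first two indices. -/
def sw (m : ℕ) : Equiv.Perm (Fin (m + 3)) := Equiv.swap 0 1

/-- `uJ` conjugated by the swap `(0 1)`. -/
def uJ' (m : ℕ) : Matrix (Fin (m + 3)) (Fin (m + 3)) F :=
  (uJ m).submatrix (sw m) (sw m)

theorem det_uJ (m : ℕ) : (uJ m : Matrix (Fin (m + 3)) (Fin (m + 3)) F).det = 1 := by
  rw [Matrix.det_of_isLowerTriangular]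
  · simp [uJ]
  · intro i j hij
    simp only [uJ]
    have h1 : i ≠ j := ne_of_lt hij
    have h2 : i.val ≠ j.val + 1 := by
      have : i.val < j.val := hij
      omega
    simp [h1, h2]

theorem det_uJ' (m : ℕ) : (uJ' m : Matrix (Fin (m + 3)) (Fin (m + 3)) F).det = 1 := by
  rw [uJ', Matrix.det_submatrix_equiv_self, det_uJ]

/-- `uJ` as an element of `SL_{m+3}(F)`. -/
def uJSL (m : ℕ) : SpecialLinearGroup (Fin (m + 3)) F := ⟨uJ m, det_uJ m⟩

/-- `uJ'` as an element of `SL_{m+3}(F)`. -/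
def uJSL' (m : ℕ) : SpecialLinearGroup (Fin (m + 3)) F := ⟨uJ' m, det_uJ' m⟩

end Cfsg.Agent.Lib.helper7.NCV
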